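import Groth.Agent.HomShQC.Basic
import Groth.Agent.IdealSh.GenericPts
import Groth.Agent.Omega.Stalks
import Groth.Agent.WeakAssSch.Unit

/-!
# Stalks of duals and reflexive hulls; reflexivity is pointwise
-/

universe u

open CategoryTheory Limits AlgebraicGeometry Opposite TopologicalSpace

noncomputable section

namespace Groth.Agent.HomShQC

open Groth.Agent.PullStalk.Sky

variable {X : Scheme.{u}}

lemma bijective_toSpan_germ_one (x : X) :
    Function.Bijective (LinearMap.toSpanSingleton (X.presheaf.stalk x)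
      ((Coh.structureModule X).presheaf.stalk x) (IdealSh.GenericPts.germU (U := ⊤) x trivial 1)) := by
  constructor
  · refine LinearMap.ker_eq_bot.mp (LinearMap.ker_eq_bot'.mpr fun r hr => ?_)
    rw [LinearMap.toSpanSingleton_apply, IdealSh.GenericPts.smul_germU_eq_zero_iff, map_one, mul_one] at hr
    exact hr
  · intro v
    obtain ⟨U, hx, s, rfl⟩ := exists_germM_eq (Coh.structureModule X) x v
    refine ⟨X.presheaf.germ U x hx (show Γ(X, U) from s), ?_⟩
    rw [LinearMap.toSpanSingleton_apply]
    have h1 : IdealSh.GenericPts.germU (U := ⊤) x trivial 1 = IdealSh.GenericPts.germU (U := U) x hx 1 := by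
      refine ((Coh.structureModule X).presheaf.germ_res_apply (homOfLE (le_top : U ≤ ⊤)) x hx
        (show Γ(Coh.structureModule X, ⊤) from (1 : Γ(X, ⊤)))).symm.trans (congrArg _ ?_)
      exact map_one (X.presheaf.map (homOfLE (le_top : U ≤ ⊤)).op).hom
    rw [h1, IdealSh.GenericPts.germU, ← germM_smul]
    exact congrArg (germM (Coh.structureModule X) U x hx) (mul_one (show Γ(X, U) from s))

/-- The stalk of the structure module is the local ring. -/
def unitStalk (x : X) :
    X.presheaf.stalk x ≃ₗ[X.presheaf.stalk x] (Coh.structureModule X).presheaf.stalk x :=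
  LinearEquiv.ofBijective _ (bijective_toSpan_germ_one x)

lemma unitStalk_germ {U : X.Opens} (x : X) (hx : x ∈ U) (s : Γ(X, U)) :
    unitStalk x (X.presheaf.germ U x hx s) = IdealSh.GenericPts.germU x hx s := by
  change X.presheaf.germ U x hx s • IdealSh.GenericPts.germU (U := ⊤) x trivial 1 = _
  have h1 : IdealSh.GenericPts.germU (U := ⊤) x trivial 1 = IdealSh.GenericPts.germU (U := U) x hx 1 := by
    refine ((Coh.structureModule X).presheaf.germ_res_apply (homOfLE (le_top : U ≤ ⊤)) x hx
      (show Γ(Coh.structureModule X, ⊤) from (1 : Γ(X, ⊤)))).symm.trans (congrArg _ ?_)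
    exact map_one (X.presheaf.map (homOfLE (le_top : U ≤ ⊤)).op).hom
  rw [h1, IdealSh.GenericPts.germU, ← germM_smul]
  exact congrArg (germM (Coh.structureModule X) U x hx) (mul_one (show Γ(X, U) from s))

lemma evalStalk_bijective (F G : X.Modules) (hF : CohB1.IsFP F) (x : X) :
    Function.Bijective (RefHull.evalStalk F G x) := by
  haveI : SheafOfModules.IsFinitePresentation.{u} F := hF
  exact ⟨HomShEval.evalStalk_injective F G (inferInstanceAs (SheafOfModules.IsFiniteType.{u} (R := X.ringCatSheaf) F)) x,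
    HomShEval.evalStalk_surjective F G hF x⟩

/-- The stalk of the dual is the dual of the stalk. -/
def dualEquiv (F : X.Modules) (hF : CohB1.IsFP F) (x : X) :
    (RefHull.dual F).presheaf.stalk x ≃ₗ[X.presheaf.stalk x]
      Module.Dual (X.presheaf.stalk x) (F.presheaf.stalk x) :=
  (LinearEquiv.ofBijective _ (evalStalk_bijective F (Coh.structureModule X) hF x)).trans
    (LinearEquiv.congrRight (unitStalk x).symm)

lemma dualEquiv_apply (F : X.Modules) (hF : CohB1.IsFP F) (x : X)
    (θ : (RefHull.dual F).presheaf.stalk x) (v : F.presheaf.stalk x) :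
    dualEquiv F hF x θ v = (unitStalk x).symm (RefHull.evalStalk F (Coh.structureModule X) x θ v) := rfl

/-- The stalk of the reflexive hull is the bidual of the stalk. -/
def ddualEquiv (F : X.Modules) (hF : CohB1.IsFP F) (hD : CohB1.IsFP (RefHull.dual F)) (x : X) :
    (RefHull.ddual F).presheaf.stalk x ≃ₗ[X.presheaf.stalk x]
      Module.Dual (X.presheaf.stalk x) (Module.Dual (X.presheaf.stalk x) (F.presheaf.stalk x)) :=
  (dualEquiv (RefHull.dual F) hD x).trans ((dualEquiv F hF x).symm.dualMap)

lemma ddualEquiv_bidual (F : X.Modules) (hF : CohB1.IsFP F) (hD : CohB1.IsFP (RefHull.dual F)) (x : X)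
    (v : F.presheaf.stalk x) :
    ddualEquiv F hF hD x (RefHull.stalkMapₗ (RefHull.bidualMap F) x v) =
      Module.Dual.eval (X.presheaf.stalk x) (F.presheaf.stalk x) v := by
  obtain ⟨U, hx, m, rfl⟩ := exists_germM_eq F x v
  refine LinearMap.ext fun φ => ?_
  obtain ⟨θ, rfl⟩ := (dualEquiv F hF x).surjective φ
  rw [ddualEquiv, LinearEquiv.trans_apply, LinearEquiv.dualMap_apply, LinearEquiv.symm_apply_apply,
    dualEquiv_apply, RefHull.stalkMapₗ_germ, RefHull.evalStalk_germ, RefHull.bidualMap_app_apply,
    RefHull.bidualAt_apply]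
  rfl

lemma bijective_stalk_bidual_iff (F : X.Modules) (hF : CohB1.IsFP F) (hD : CohB1.IsFP (RefHull.dual F)) (x : X) :
    Function.Bijective (RefHull.stalkMapₗ (RefHull.bidualMap F) x) ↔ RefHull.IsReflexiveAt F x := by
  have he : (ddualEquiv F hF hD x : _ → _) ∘ RefHull.stalkMapₗ (RefHull.bidualMap F) x =
      Module.Dual.eval (X.presheaf.stalk x) (F.presheaf.stalk x) := funext (ddualEquiv_bidual F hF hD x)
  rw [← (ddualEquiv F hF hD x).bijective.of_comp_iff', he]
  exact ⟨fun h => ⟨h⟩, fun h => h.1⟩

lemma isIso_iff_bijective_stalk {F G : X.Modules} (φ : F ⟶ G) :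
    IsIso φ ↔ ∀ x, Function.Bijective (RefHull.stalkMapₗ φ x) := by
  refine ⟨fun _ x => ?_, fun h => Omega.Stalks.isIso_of_stalk fun x => h x⟩
  haveI : IsIso φ.mapPresheaf := inferInstanceAs (IsIso ((Scheme.Modules.toPresheaf X).map φ))
  exact ConcreteCategory.bijective_of_isIso ((TopCat.Presheaf.stalkFunctor Ab x).map φ.mapPresheaf)

/-- Reflexivity is pointwise (finitely presented module with finitely presented dual). -/
theorem isReflexive_iff (F : X.Modules) (hF : CohB1.IsFP F) (hD : CohB1.IsFP (RefHull.dual F)) :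
    RefHull.IsReflexive F ↔ ∀ x, RefHull.IsReflexiveAt F x := by
  rw [RefHull.IsReflexive, isIso_iff_bijective_stalk]
  exact forall_congr' (bijective_stalk_bidual_iff F hF hD)

/-- The structure module of a locally Noetherian scheme is coherent. -/
theorem isCoh_structureModule [IsLocallyNoetherian X] : Coh.IsCoh (Coh.structureModule X) := by
  have hq : (Coh.structureModule X).IsQuasicoherent := WeakAssSch.isQuasicoherent_unit X
  refine ⟨hq, (QCoh.isFiniteType_iff _).mpr fun U _ => ?_⟩
  exact Module.Finite.of_surjective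
    (LinearMap.toSpanSingleton Γ(X, U) Γ(Coh.structureModule X, U) (1 : Γ(X, U)))
    fun b => ⟨b, mul_one (M := Γ(X, U)) b⟩

/-- On a locally Noetherian scheme the dual of a coherent module is coherent. -/
theorem isCoh_dual [IsLocallyNoetherian X] (F : X.Modules) (hF : Coh.IsCoh F) :
    Coh.IsCoh (RefHull.dual F) :=
  isCoh_homSh F _ hF isCoh_structureModule

/-- Reflexivity of coherent modules is pointwise. -/
theorem isReflexive_iff_of_isCoh [IsLocallyNoetherian X] (F : X.Modules) (hF : Coh.IsCoh F) :
    RefHull.IsReflexive F ↔ ∀ x, RefHull.IsReflexiveAt F x :=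
  isReflexive_iff F (isFP_of_isCoh F hF) (isFP_of_isCoh _ (isCoh_dual F hF))

end Groth.Agent.HomShQC

end

namespace Groth.Agent.HomShQC

open AlgebraicGeometry CategoryTheory TopologicalSpace Groth.Agent.PullStalk.Sky

variable {X : Scheme.{u}}

/-- Stalks of finite type modules are finite. -/
theorem finite_stalk (F : X.Modules) (hF : CohB1.IsFT F) (x : X) :
    Module.Finite (X.presheaf.stalk x) (F.presheaf.stalk x) := by
  obtain ⟨U, hx, n, s, hs⟩ := HomShEval.exists_span_germ F hF x
  exact ⟨hs x hx ▸ Submodule.fg_span (Set.finite_range _)⟩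

/-- Bijectivity of a stalk map of quasi-coherent modules is stable under generalization. -/
theorem bijective_stalkMap_of_specializes {F G : X.Modules} [F.IsQuasicoherent] [G.IsQuasicoherent]
    (φ : F ⟶ G) {y x : X} (hyx : y ⤳ x) (h : Function.Bijective (RefHull.stalkMapₗ φ x)) :
    Function.Bijective (RefHull.stalkMapₗ φ y) := by
  obtain ⟨_, ⟨U, hU, rfl⟩, hxU, -⟩ :=
    X.isBasis_affineOpens.exists_subset_of_mem_open (Set.mem_univ x) isOpen_univ
  replace hU : IsAffineOpen U := hU
  have hy : y ∈ U := hyx.mem_open U.2 hxU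
  letI := Props.QStalk.moduleSections F hy
  letI := Props.QStalk.moduleSections G hy
  haveI hP := Props.QStalk.isLocalizedModule_germLin F hy hU
  haveI hQ := Props.QStalk.isLocalizedModule_germLin G hy hU
  letI := X.presheaf.algebra_section_stalk ⟨y, hy⟩
  haveI : IsLocalization.AtPrime (X.presheaf.stalk y) (hU.primeIdealOf ⟨y, hy⟩).asIdeal :=
    hU.isLocalization_stalk ⟨y, hy⟩
  set S := (hU.primeIdealOf ⟨y, hy⟩).asIdeal.primeCompl
  have hsp : ∀ (M : X.Modules) (m : Γ(M, U)),
      M.presheaf.stalkSpecializes hyx (germM M U x hxU m) = germM M U y hy m :=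
    fun M m => TopCat.Presheaf.germ_stalkSpecializes_apply M.presheaf hxU hyx m
  constructor
  · refine LinearMap.ker_eq_bot.mp (LinearMap.ker_eq_bot'.mpr fun t ht => ?_)
    obtain ⟨⟨m, c⟩, hmc⟩ := IsLocalizedModule.surj S (Props.QStalk.germLin F hy) t
    have hc : IsUnit (X.presheaf.germ U y hy c.1) := IsLocalization.map_units (X.presheaf.stalk y) c
    have hmc' : X.presheaf.germ U y hy c.1 • t = germM F U y hy m := hmc
    have h1 : germM G U y hy (φ.app U m) = germM G U y hy 0 := by
      rw [show germM G U y hy (0 : Γ(G, U)) = 0 from map_zero _]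
      refine ((RefHull.stalkMapₗ_germ φ y hy m).symm).trans ?_
      exact (congrArg (RefHull.stalkMapₗ φ y) hmc'.symm).trans (by rw [map_smul, ht, smul_zero])
    obtain ⟨d, hd⟩ := (IsLocalizedModule.eq_iff_exists S (Props.QStalk.germLin G hy)).mp h1
    have hd' : IsUnit (X.presheaf.germ U y hy d.1) := IsLocalization.map_units (X.presheaf.stalk y) d
    rw [smul_zero, Submonoid.smul_def] at hd
    have h2 : germM F U x hxU (d.1 • m) = 0 := by
      refine h.1 ((RefHull.stalkMapₗ_germ φ x hxU _).trans ?_)
      rw [map_zero, Scheme.Modules.Hom.app_smul, hd]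
      exact map_zero _
    have h3 : germM F U y hy (d.1 • m) = 0 := by rw [← hsp, h2, map_zero]
    rw [germM_smul, hd'.smul_eq_zero, ← hmc', hc.smul_eq_zero] at h3
    exact h3
  · intro v
    obtain ⟨⟨n, c⟩, hnc⟩ := IsLocalizedModule.surj S (Props.QStalk.germLin G hy) v
    have hc : IsUnit (X.presheaf.germ U y hy c.1) := IsLocalization.map_units (X.presheaf.stalk y) c
    have hnc' : X.presheaf.germ U y hy c.1 • v = germM G U y hy n := hnc
    obtain ⟨w, hw⟩ := h.2 (germM G U x hxU n)
    have hnat : RefHull.stalkMapₗ φ y (F.presheaf.stalkSpecializes hyx w) =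
        G.presheaf.stalkSpecializes hyx (RefHull.stalkMapₗ φ x w) := by
      obtain ⟨W, hxW, m, rfl⟩ := exists_germM_eq F x w
      rw [RefHull.stalkMapₗ_germ, TopCat.Presheaf.germ_stalkSpecializes_apply F.presheaf hxW hyx,
        RefHull.stalkMapₗ_germ, TopCat.Presheaf.germ_stalkSpecializes_apply G.presheaf hxW hyx]
    obtain ⟨w', hw'⟩ : ∃ w', X.presheaf.germ U y hy c.1 • w' = F.presheaf.stalkSpecializes hyx w :=
      ⟨(↑hc.unit⁻¹ : X.presheaf.stalk y) • F.presheaf.stalkSpecializes hyx w,
        by rw [smul_smul, IsUnit.mul_val_inv, one_smul]⟩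
    refine ⟨w', hc.smul_left_cancel.mp ?_⟩
    rw [← map_smul, hw', hnat, hw, hsp, hnc']

/-- For a coherent module, pointwise reflexivity can be checked at specializations. -/
theorem isReflexiveAt_of_specializes [IsLocallyNoetherian X] (F : X.Modules) (hF : Coh.IsCoh F)
    {y x : X} (hyx : y ⤳ x) (h : RefHull.IsReflexiveAt F x) : RefHull.IsReflexiveAt F y := by
  have hD := isCoh_dual F hF
  haveI : F.IsQuasicoherent := hF.1
  haveI : (RefHull.ddual F).IsQuasicoherent := (isCoh_dual _ hD).1
  rw [← bijective_stalk_bidual_iff F (isFP_of_isCoh F hF) (isFP_of_isCoh _ hD)] at h ⊢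
  exact bijective_stalkMap_of_specializes _ hyx h

end Groth.Agent.HomShQC
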