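import Groth.Prelude.Def_RefHull
import Groth.Agent.QCoh.FiniteType
import Groth.Agent.Props.QFP
import Groth.Agent.Props.QStalk
import Groth.Agent.HomShEval.Basic

/-!
# The sheaf Hom `RefHull.homSh F G`: sections over affines, quasi-coherence, coherence
-/

universe u

open CategoryTheory Limits AlgebraicGeometry Opposite TopologicalSpace

noncomputable section

namespace Groth.Agent.HomShQC

open Groth.Agent.QCoh Groth.Agent.PullStalk.Sky Groth.Agent.Props.QStalk

variable {X : Scheme.{u}}

lemma germM_res (M : X.Modules) {U V : X.Opens} (h : V ≤ U) (y : X) (hy : y ∈ V) (m : Γ(M, U)) :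
    germM M V y hy (res M h m) = germM M U y (h hy) m :=
  M.presheaf.germ_res_apply (homOfLE h) y hy m

lemma germ_rres {U V : X.Opens} (h : V ≤ U) (y : X) (hy : y ∈ V) (r : Γ(X, U)) :
    X.presheaf.germ V y hy (rres h r) = X.presheaf.germ U y (h hy) r :=
  X.presheaf.germ_res_apply (homOfLE h) y hy r

/-- Sections are determined by their germs. -/
lemma sec_ext (M : X.Modules) {U : X.Opens} {s t : Γ(M, U)}
    (h : ∀ y (hy : y ∈ U), germM M U y hy s = germM M U y hy t) : s = t :=
  TopCat.Presheaf.section_ext ⟨_, M.isSheaf⟩ U s t h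

/-- A family of germs which is locally the family of germs of a section is one. -/
lemma exists_sec (M : X.Modules) {U : X.Opens} (t : ∀ y : U, M.presheaf.stalk y.1)
    (h : ∀ x : U, ∃ (W : X.Opens) (_ : x.1 ∈ W) (j : W ≤ U) (n : Γ(M, W)),
      ∀ y : W, t ⟨y.1, j y.2⟩ = germM M W y.1 y.2 n) :
    ∃ n : Γ(M, U), ∀ y : U, germM M U y.1 y.2 n = t y := by
  choose W hxW j n hn using h
  obtain ⟨s, hs⟩ := exists_glue M j (fun y hy => Opens.mem_iSup.mpr ⟨⟨y, hy⟩, hxW ⟨y, hy⟩⟩) n
    (fun a b => sec_ext M fun y hy => by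
      rw [germM_res, germM_res, ← hn a ⟨y, hy.1⟩, ← hn b ⟨y, hy.2⟩])
  refine ⟨s, fun y => ?_⟩
  rw [hn y ⟨y.1, hxW y⟩, ← hs y, germM_res]

variable (F G : X.Modules) {U : X.Opens}

/-- Value of a section of the sheaf Hom on a section. -/
lemma exists_value (g : Γ(RefHull.homSh F G, U)) (m : Γ(F, U)) :
    ∃ n : Γ(G, U), ∀ y : U, germM G U y.1 y.2 n = g.1 y (germM F U y.1 y.2 m) :=
  exists_sec G _ fun x => by
    obtain ⟨W, hxW, j, n, hW⟩ := RefHull.isLocSect_of_mem g U (𝟙 U) m x
    exact ⟨W, hxW, j.le, n, fun y => hW y⟩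

/-- The linear map on sections over `U` given by a section of the sheaf Hom over `U`. -/
def sec : Γ(RefHull.homSh F G, U) →ₗ[Γ(X, U)] (Γ(F, U) →ₗ[Γ(X, U)] Γ(G, U)) where
  toFun g :=
    { toFun := fun m => (exists_value F G g m).choose
      map_add' := fun a b => sec_ext G fun y hy => by
        have e := fun m => (exists_value F G g m).choose_spec ⟨y, hy⟩
        change _ = G.presheaf.germ U y hy _
        rw [map_add]
        refine (e (a + b)).trans ?_
        refine Eq.trans ?_ (congrArg₂ (· + ·) (e a).symm (e b).symm)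
        rw [← map_add]
        exact congrArg _ (map_add (F.presheaf.germ U y hy).hom a b)
      map_smul' := fun r a => sec_ext G fun y hy => by
        have e := fun m => (exists_value F G g m).choose_spec ⟨y, hy⟩
        rw [RingHom.id_apply, germM_smul, e, e, germM_smul, map_smul] }
  map_add' g h := LinearMap.ext fun m => sec_ext G fun y hy => by
    rw [LinearMap.add_apply]
    refine ((exists_value F G (g + h) m).choose_spec ⟨y, hy⟩).trans ?_
    refine Eq.trans ?_ (map_add (G.presheaf.germ U y hy).hom _ _).symm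
    refine Eq.trans ?_ (congrArg₂ (· + ·) ((exists_value F G g m).choose_spec ⟨y, hy⟩).symm
      ((exists_value F G h m).choose_spec ⟨y, hy⟩).symm)
    rfl
  map_smul' r g := LinearMap.ext fun m => sec_ext G fun y hy => by
    rw [RingHom.id_apply, LinearMap.smul_apply, germM_smul]
    refine ((exists_value F G (r • g) m).choose_spec ⟨y, hy⟩).trans ?_
    refine Eq.trans ?_ (congrArg (X.presheaf.germ U y hy r • ·)
      ((exists_value F G g m).choose_spec ⟨y, hy⟩).symm)
    rfl

lemma germM_sec (g : Γ(RefHull.homSh F G, U)) (m : Γ(F, U)) (y : U) :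
    germM G U y.1 y.2 (sec F G g m) = g.1 y (germM F U y.1 y.2 m) :=
  (exists_value F G g m).choose_spec y

/-- A stalk map is determined by its values on germs of sections over an affine open. -/
lemma stalkHom_ext [F.IsQuasicoherent] (hU : IsAffineOpen U) {y : X} (hy : y ∈ U)
    {f g : RefHull.StalkHom F G y}
    (h : ∀ m : Γ(F, U), f (germM F U y hy m) = g (germM F U y hy m)) : f = g := by
  letI := moduleSections F hy
  haveI := isLocalizedModule_germLin F hy hU
  refine LinearMap.ext fun v => ?_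
  obtain ⟨⟨m, c⟩, hmc⟩ := IsLocalizedModule.surj
    (hU.primeIdealOf ⟨y, hy⟩).asIdeal.primeCompl (germLin F hy) v
  letI := X.presheaf.algebra_section_stalk ⟨y, hy⟩
  haveI : IsLocalization.AtPrime (X.presheaf.stalk y) (hU.primeIdealOf ⟨y, hy⟩).asIdeal :=
    hU.isLocalization_stalk ⟨y, hy⟩
  have hc : IsUnit (X.presheaf.germ U y hy c.1) :=
    IsLocalization.map_units (X.presheaf.stalk y) c
  have hmc' : X.presheaf.germ U y hy c.1 • v = germM F U y hy m := hmc
  apply hc.smul_left_cancel.mp
  rw [← map_smul, ← map_smul, hmc']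
  exact h m

theorem sec_injective [F.IsQuasicoherent] (hU : IsAffineOpen U) :
    Function.Injective (sec F G : Γ(RefHull.homSh F G, U) → _) := by
  intro g h e
  refine Subtype.ext (funext fun y => stalkHom_ext F G hU y.2 fun m => ?_)
  rw [← germM_sec, ← germM_sec, e]

/-- Extension of a linear map on sections over an affine open to the stalks. -/
lemma exists_stalkHom [F.IsQuasicoherent] (hU : IsAffineOpen U)
    (φ : Γ(F, U) →ₗ[Γ(X, U)] Γ(G, U)) (y : U) :
    ∃ f : RefHull.StalkHom F G y.1,
      ∀ m : Γ(F, U), f (germM F U y.1 y.2 m) = germM G U y.1 y.2 (φ m) := by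
  letI := moduleSections F y.2
  letI := moduleSections G y.2
  haveI := isLocalizedModule_germLin F y.2 hU
  letI := X.presheaf.algebra_section_stalk y
  haveI : IsLocalization.AtPrime (X.presheaf.stalk y.1) (hU.primeIdealOf y).asIdeal :=
    hU.isLocalization_stalk y
  let S := (hU.primeIdealOf y).asIdeal.primeCompl
  have hu : ∀ c : S, IsUnit (algebraMap Γ(X, U) (Module.End Γ(X, U) (G.presheaf.stalk y.1)) c) := by
    intro c
    rw [Module.End.isUnit_iff]
    exact (IsLocalization.map_units (X.presheaf.stalk y.1) c).smul_bijective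
  let f := IsLocalizedModule.lift S (germLin F y.2) ((germLin G y.2).comp φ) hu
  have hf : ∀ m, f (germM F U y.1 y.2 m) = germM G U y.1 y.2 (φ m) := fun m =>
    IsLocalizedModule.lift_apply S (germLin F y.2) ((germLin G y.2).comp φ) hu m
  refine ⟨{ toFun := f, map_add' := map_add f, map_smul' := fun a v => ?_ }, hf⟩
  obtain ⟨⟨r, c⟩, hrc⟩ := IsLocalization.surj S a
  have hc := IsLocalization.map_units (X.presheaf.stalk y.1) c
  apply hc.smul_left_cancel.mp
  rw [RingHom.id_apply, smul_smul]
  have h1 : algebraMap Γ(X, U) (X.presheaf.stalk y.1) c.1 • f (a • v) = f ((c.1 : Γ(X, U)) • (a • v)) :=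
    (map_smul f _ _).symm
  have h2 : (c.1 : Γ(X, U)) • (a • v) = r • v := by
    change algebraMap Γ(X, U) (X.presheaf.stalk y.1) c.1 • (a • v) = algebraMap Γ(X, U) (X.presheaf.stalk y.1) r • v
    rw [smul_smul, mul_comm, hrc]
  rw [h1, h2, mul_comm, hrc]
  exact map_smul f r v

theorem sec_surjective [F.IsQuasicoherent] (hU : IsAffineOpen U) :
    Function.Surjective (sec F G : Γ(RefHull.homSh F G, U) → _) := by
  intro φ
  choose f hf using exists_stalkHom F G hU φ
  have hloc : RefHull.IsLocSect F G f := by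
    intro V i m x
    obtain ⟨g, hgle, hxg⟩ := hU.exists_basicOpen_le ⟨x.1, x.2⟩ (i.le x.2)
    obtain ⟨k, m', hm'⟩ := (isLocalizingAt F hU g).surj (res F hgle m)
    have hu : IsUnit (rres (X.basicOpen_le g) g ^ k) :=
      (RingedSpace.isUnit_res_basicOpen _ g).pow k
    refine ⟨X.basicOpen g, hxg, homOfLE hgle,
      (↑hu.unit⁻¹ : Γ(X, X.basicOpen g)) • res G (X.basicOpen_le g) (φ m'), fun y => ?_⟩
    have hy : y.1 ∈ U := X.basicOpen_le g y.2
    have e := hf ⟨y.1, hy⟩ m'
    rw [← germM_res F (X.basicOpen_le g) y.1 y.2, hm', germM_smul, map_smul, germM_res] at e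
    apply (hu.map (X.presheaf.germ (X.basicOpen g) y.1 y.2).hom).smul_left_cancel.mp
    refine Eq.trans e ?_
    change _ = X.presheaf.germ (X.basicOpen g) y.1 y.2 (rres (X.basicOpen_le g) g ^ k) •
      germM G (X.basicOpen g) y.1 y.2 _
    rw [← germM_smul, smul_smul, IsUnit.mul_val_inv, one_smul, germM_res]
  refine ⟨⟨f, hloc⟩, LinearMap.ext fun m => sec_ext G fun y hy => ?_⟩
  rw [← hf ⟨y, hy⟩ m]
  exact germM_sec F G _ m ⟨y, hy⟩

/-- Sections of the sheaf Hom over an affine open. -/
def secEquiv [F.IsQuasicoherent] (hU : IsAffineOpen U) :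
    Γ(RefHull.homSh F G, U) ≃ₗ[Γ(X, U)] (Γ(F, U) →ₗ[Γ(X, U)] Γ(G, U)) :=
  LinearEquiv.ofBijective (sec F G) ⟨sec_injective F G hU, sec_surjective F G hU⟩

/-- `𝓗om(F, G)` is quasi-coherent for `F` of finite presentation and `G` quasi-coherent. -/
theorem isQuasicoherent_homSh (hF : CohB1.IsFP F) (hG : Coh.IsQCoh G) :
    Coh.IsQCoh (RefHull.homSh F G) := by
  haveI : SheafOfModules.IsFinitePresentation.{u} F := hF
  haveI : F.IsQuasicoherent := inferInstance
  haveI : G.IsQuasicoherent := hG
  refine (isQuasicoherent_iff_forall_isAffineOpen _).mpr fun U hU g => ?_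
  haveI : Fact (IsAffineOpen U) := ⟨hU⟩
  haveI := Props.QFP.finitePresentation_sections_of_isFP F hU
  refine ⟨fun s => ?_, fun t ht => ?_⟩
  · let ψ : Γ(F, U) →ₗ[Γ(X, U)] Γ(G, X.basicOpen g) :=
      { toFun := fun m => sec F G s (res F (X.basicOpen_le g) m)
        map_add' := fun a b => by rw [map_add, map_add]
        map_smul' := fun r a => by
          rw [res_smul, map_smul, RingHom.id_apply]
          rfl }
    obtain ⟨φ, ⟨_, k, rfl⟩, hφ⟩ := Module.FinitePresentation.exists_lift_of_isLocalizedModule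
      (Submonoid.powers g) (resLin G g) ψ
    obtain ⟨t, ht⟩ := sec_surjective F G hU φ
    refine ⟨k, t, Subtype.ext (funext fun y => stalkHom_ext F G hU (X.basicOpen_le g y.2) fun m => ?_)⟩
    have e := germM_sec F G t m ⟨y.1, X.basicOpen_le g y.2⟩
    rw [ht, ← germM_res G (X.basicOpen_le g) y.1 y.2] at e
    have e2 : res G (X.basicOpen_le g) (φ m) = rres (X.basicOpen_le g) (g ^ k) • ψ m :=
      LinearMap.congr_fun hφ m
    rw [e2, germM_smul, map_pow] at e
    refine e.symm.trans (congrArg (_ • ·) ?_)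
    refine (germM_sec F G s _ y).trans ?_
    rw [germM_res]
  · have h0 : ∀ m, resLin G g (sec F G t m) = resLin G g 0 := fun m => sec_ext G fun y hy => by
      change germM G _ y hy (res G _ _) = germM G _ y hy (res G _ _)
      rw [germM_res, germM_res, germM_sec F G t m ⟨y, X.basicOpen_le g hy⟩]
      have h1 : t.1 ⟨y, X.basicOpen_le g hy⟩ = 0 := congrFun (congrArg Subtype.val ht) ⟨y, hy⟩
      rw [h1, LinearMap.zero_apply]
      exact (map_zero (G.presheaf.germ U y _).hom).symm
    classical
    obtain ⟨T, hT⟩ := (Module.Finite.fg_top : (⊤ : Submodule Γ(X, U) Γ(F, U)).FG)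
    choose c hc using fun m => (IsLocalizedModule.eq_iff_exists (Submonoid.powers g) (resLin G g)).mp (h0 m)
    obtain ⟨k, hk⟩ := (∏ m ∈ T, c m : Submonoid.powers g).2
    refine ⟨k, sec_injective F G hU ?_⟩
    rw [map_smul, map_zero]
    refine LinearMap.ext_on hT fun m hm => ?_
    rw [LinearMap.smul_apply, LinearMap.zero_apply, show g ^ k = _ from hk, ← Submonoid.smul_def,
      ← Finset.prod_erase_mul T c hm, mul_smul, hc m, smul_zero, smul_zero]

/-- On a locally Noetherian scheme coherent modules are of finite presentation. -/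
theorem isFP_of_isCoh [IsLocallyNoetherian X] (hF : Coh.IsCoh F) : CohB1.IsFP F := by
  haveI := hF.1
  haveI := hF.2
  refine (Props.QFP.isFP_iff F).mpr fun U hU => ?_
  haveI : IsNoetherianRing Γ(X, U) := IsLocallyNoetherian.component_noetherian ⟨U, hU⟩
  haveI := finite_sections_of_isFiniteType F hU
  exact Module.finitePresentation_of_finite Γ(X, U) Γ(F, U)

/-- On a locally Noetherian scheme `𝓗om` of coherent modules is coherent. -/
theorem isCoh_homSh [IsLocallyNoetherian X] (hF : Coh.IsCoh F) (hG : Coh.IsCoh G) :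
    Coh.IsCoh (RefHull.homSh F G) := by
  haveI := hF.1
  haveI := hF.2
  haveI := hG.1
  haveI := hG.2
  have hq := isQuasicoherent_homSh F G (isFP_of_isCoh F hF) hG.1
  haveI : (RefHull.homSh F G).IsQuasicoherent := hq
  refine ⟨hq, (isFiniteType_iff _).mpr fun U hU => ?_⟩
  haveI : IsNoetherianRing Γ(X, U) := IsLocallyNoetherian.component_noetherian ⟨U, hU⟩
  haveI := finite_sections_of_isFiniteType F hU
  haveI := finite_sections_of_isFiniteType G hU
  exact Module.Finite.equiv (secEquiv F G hU).symm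

end Groth.Agent.HomShQC

end
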